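import Groth.Agent.RelVALib.VALocal
import Groth.Agent.CohExch.FlatBC0
import Groth.Agent.Desc19b.Imm
import Groth.Agent.Et18.Descent

/-!
# Very ampleness descends along faithfully flat quasi-compact base change
-/

set_option autoImplicit false
set_option linter.unusedSectionVars false
set_option backward.isDefEq.respectTransparency.types false
set_option maxHeartbeats 1000000

universe u

open AlgebraicGeometry CategoryTheory CategoryTheory.Limits TopologicalSpace Opposite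
open Groth.Agent.Coherent Groth.Agent.PicLib Groth.Agent.AmpleLib Groth.Agent.RelVALib

namespace Groth.Agent.VADescent28

variable {X Y X' Y' : Scheme.{u}}

/-- A section whose pullback generates near a point generates near the image of the point. -/
theorem exists_isGen_of_pullSec (v : X' ⟶ X) {L : X.Modules} (hL : PicF.IsInvertible L) {U : X.Opens} (s : Γ(L, U))
    (x : X') (W : X'.Opens) (hW : W ≤ v ⁻¹ᵁ U) (hx : x ∈ W)
    (hg : IsGen ((Scheme.Modules.pullback v).obj L) W (resM _ hW (pullSec v s))) :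
    ∃ (W₀ : X.Opens) (h : W₀ ≤ U), v x ∈ W₀ ∧ IsGen L W₀ (resM L h s) := by
  obtain ⟨V, hxV, g, hgen⟩ := exists_isGen hL (v x)
  let A := U ⊓ V
  have h1 := hgen.restrict (inf_le_right : A ≤ V)
  let c := h1.coef le_rfl (resM L (inf_le_left : A ≤ U) s)
  have hc := h1.coef_spec le_rfl (resM L (inf_le_left : A ≤ U) s)
  rw [resM_self] at hc
  let T := W ⊓ v ⁻¹ᵁ A
  have hgA := (isGen_pullSec v h1 hL).restrict (inf_le_right : T ≤ v ⁻¹ᵁ A)
  have hgT := hg.restrict (inf_le_left : T ≤ W)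
  rw [resM_resM] at hgT
  have he : resM ((Scheme.Modules.pullback v).obj L) ((inf_le_left : T ≤ W).trans hW) (pullSec v s) =
      res (inf_le_right : T ≤ v ⁻¹ᵁ A) (v.app A c) •
        resM _ (inf_le_right : T ≤ v ⁻¹ᵁ A) (pullSec v (resM L (inf_le_right : A ≤ V) g)) := by
    rw [← resM_smul, ← pullSec_smul, hc, ← resM_pullSec, resM_resM]
  rw [he] at hgT
  have hu : IsUnit (res (inf_le_right : T ≤ v ⁻¹ᵁ A) (v.app A c)) := by
    have := hgA.isUnit_coef hgT
    rwa [hgA.coef_eq le_rfl (r := res (inf_le_right : T ≤ v ⁻¹ᵁ A) (v.app A c)) (by rw [resM_self])] at this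
  have hxT : x ∈ T := ⟨hx, hW hx, hxV⟩
  have hxc : x ∈ v ⁻¹ᵁ X.basicOpen c := by
    rw [Scheme.preimage_basicOpen]
    rw [Scheme.mem_basicOpen X' _ x hxT.2]
    have := hu.map (X'.presheaf.germ T x hxT).hom
    erw [TopCat.Presheaf.germ_res_apply] at this
    exact this
  let W₀ := X.basicOpen c
  have hW₀ : W₀ ≤ A := X.basicOpen_le c
  refine ⟨W₀, hW₀.trans inf_le_left, hxc, ?_⟩
  have hunit : IsUnit (res (X.basicOpen_le c) c) := RingedSpace.isUnit_res_basicOpen X.toRingedSpace c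
  obtain ⟨w, hw⟩ := hunit
  have key := (h1.restrict hW₀).smul_unit w
  rw [hw, ← resM_smul, hc, resM_resM] at key
  exact key

/-- **Very ampleness descends** along a faithfully flat quasi-compact base change. -/
theorem isRelVeryAmple_of_fpqc (q : X ⟶ Y) [QuasiCompact q] (ψ : Y' ⟶ Y) [Flat ψ] [Surjective ψ] [QuasiCompact ψ]
    (v : X' ⟶ X) (q' : X' ⟶ Y') (sq : IsPullback v q' q ψ) (L : X.Modules) (hL : PicF.IsInvertible L)
    (hva : RelProj.IsRelVeryAmple q' ((Scheme.Modules.pullback v).obj L)) :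
    RelProj.IsRelVeryAmple q L := by
  have hψ : (@Surjective ⊓ @Flat ⊓ @QuasiCompact : MorphismProperty Scheme.{u}) ψ :=
    ⟨⟨inferInstance, inferInstance⟩, inferInstance⟩
  haveI : Surjective v := MorphismProperty.of_isPullback (P := @Surjective) sq.flip inferInstance
  haveI : IsSeparated q' := isSeparated_of_isRelVeryAmple hva
  haveI : IsSeparated q := by
    have := Et18.descends_isSeparated.{u}
    exact MorphismProperty.of_isPullback_of_descendsAlong (P := @IsSeparated) sq.flip hψ ‹_›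
  haveI : QuasiCompact q' := MorphismProperty.of_isPullback (P := @QuasiCompact) sq inferInstance
  haveI : Coh.IsQCoh L := isQCoh_of_isInvertible hL
  let L' := (Scheme.Modules.pullback v).obj L
  have hL' : PicF.IsInvertible L' := PicLoc.isInvertible_pullback v hL
  let E₂ := (Scheme.Modules.pushforward q).obj L
  have hE₂ : Coh.IsQCoh E₂ := isQCoh_push q L
  let u : (Scheme.Modules.pullback ψ).obj E₂ ⟶ (Scheme.Modules.pushforward q').obj L' :=
    CohBC.bc0 q ψ q' v sq.w L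
  haveI : IsIso u := CohExch.isIso_bc0_of_flat_morphism sq L
  let t₁ : E₂ ⟶ (Scheme.Modules.pushforward (q' ≫ ψ)).obj L' :=
    (Scheme.Modules.pullbackPushforwardAdjunction ψ).homEquiv E₂ _ u
  have hu : ∀ (U : Y.Opens) (m : Γ(E₂, U)), u.app (ψ ⁻¹ᵁ U) (PicLib.pullSec ψ m) = t₁.app U m :=
    fun U m => rfl
  have hsqU : ∀ U : Y.Opens, (q' ≫ ψ) ⁻¹ᵁ U ≤ v ⁻¹ᵁ (q ⁻¹ᵁ U) := fun U => by
    rw [← sq.w]
    exact le_rfl
  have ht₁' : ∀ (U : Y.Opens) (m : Γ(E₂, U)),
      t₁.app U m = resM L' (hsqU U) (pullSec v (show Γ(L, q ⁻¹ᵁ U) from m)) := by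
    intro U m
    rw [← hu U m]
    exact CohExch.bc0_pullSec sq.w L U m
  obtain ⟨E, hE, 𝒮, j, hj, P, p, chart, hP, O1, lam, hO1, i, hi, hip, ⟨eL⟩⟩ := hva
  obtain ⟨φ, D⟩ := exists_pBundle hE hj hP hO1
  obtain ⟨t, ht⟩ := exists_classified (E := E) (φ := φ) i hip eL.symm
  have hgen' : ∀ x : X', ∃ (U : Y'.Opens) (hU : IsAffineOpen U) (e : Γ(E, U)) (W : X'.Opens) (hW : W ≤ q' ⁻¹ᵁ U),
      x ∈ W ∧ IsGen L' W (resM L' hW (t.app U e)) := fun x => by
    obtain ⟨U, hU, hxU, -⟩ := exists_isAffineOpen_mem_and_subset (x := q' x) (U := (⊤ : Y'.Opens)) trivial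
    obtain ⟨e, he⟩ := D.exists_mem_opn hU (show i x ∈ p ⁻¹ᵁ U by
      show p (i x) ∈ U
      rw [← Scheme.Hom.comp_apply, hip]
      exact hxU)
    refine ⟨U, hU, e, i ⁻¹ᵁ opn j p chart hU e, (i.preimage_mono (D.opn_le hU e)).trans (le_of_over hip U), he, ?_⟩
    refine isGen_congr ?_ (isGen_of_iso eL.symm (isGen_pullSec i (D.isGen_phi hU e) D.invertible))
    rw [← resM_pullSec, app_resM, ht U hU e]
    exact resM_resM L' _ _ _
  have hinv : ∀ (U : Y'.Opens) (z : Γ((Scheme.Modules.pushforward q').obj L', U)),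
      u.app U ((inv u).app U z) = z := fun U z => by
    have := congrArg (fun f => f.app U z) (IsIso.inv_hom_id u)
    exact this
  have hcov' : ∀ x : X', ∃ (U : Y'.Opens) (_ : IsAffineOpen U) (e : Γ((Scheme.Modules.pullback ψ).obj E₂, U))
      (W : X'.Opens) (hW : W ≤ q' ⁻¹ᵁ U), x ∈ W ∧ IsGen L' W (resM L' hW (u.app U e)) := fun x => by
    obtain ⟨U, hU, e, W, hW, hxW, hg⟩ := hgen' x
    exact ⟨U, hU, (inv u).app U (t.app U e), W, hW, hxW, isGen_congr (by rw [hinv]) hg⟩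
  have hcova := (cover_iff (Y' := Y') (ψ := ψ) t₁ q' rfl u
    (fun U _ e hle => (hu U e).trans (resM_self L' hle _).symm) hL').2 hcov'
  refine isRelVeryAmple_of_classifies q L E₂ hE₂ (𝟙 _) (fun x => ?_)
    fun 𝒮₂ j₂ P₂ p₂ chart₂ O₂ lam₂ φ₂ D₂ r hr τ hτ => ?_
  · obtain ⟨x', rfl⟩ := v.surjective x
    obtain ⟨U, hU, e, W, hW, hxW, hg⟩ := hcova x'
    have hg' : IsGen L' W (resM L' (hW.trans (hsqU U)) (pullSec v (show Γ(L, q ⁻¹ᵁ U) from e))) := by
      refine isGen_congr ?_ hg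
      rw [ht₁']
      exact resM_resM L' _ _ _
    obtain ⟨W₀, h₀, hx₀, hg₀⟩ := exists_isGen_of_pullSec v hL _ x' W _ hxW hg'
    exact ⟨U, hU, e, W₀, h₀, hx₀, hg₀⟩
  -- the immersion
  let a := v ≫ r
  have hab : a ≫ p₂ = q' ≫ ψ := by rw [Category.assoc, hr, sq.w]
  obtain ⟨c, hc⟩ := exists_compIso v r a rfl O₂
  let τa : (Scheme.Modules.pullback a).obj O₂ ≅ L' := c ≪≫ (Scheme.Modules.pullback v).mapIso τ
  have hτa : Classifies φ₂ (q' ≫ ψ) t₁ a hab τa := fun U hU m => by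
    show ((Scheme.Modules.pullback v).map τ.hom).app _ (c.hom.app (a ⁻¹ᵁ (p₂ ⁻¹ᵁ U)) _) = _
    rw [hc (p₂ ⁻¹ᵁ U) _ le_rfl]
    erw [resM_self]
    refine (map_app_pullSec v τ.hom (r ⁻¹ᵁ (p₂ ⁻¹ᵁ U)) _).trans ?_
    rw [hτ U hU m]
    show pullSec v (resM L (le_of_over hr U) (show Γ(L, q ⁻¹ᵁ U) from m)) = _
    rw [← resM_pullSec, ht₁', resM_resM]
    rfl
  obtain ⟨𝒮', j', P', p', chart', O1', lam', φ', D'⟩ :=
    exists_bundle ((Scheme.Modules.pullback ψ).obj E₂) (EGA43.InjFibre.isQCoh_pullback ψ E₂)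
  let tg : E₂ ⟶ (Scheme.Modules.pushforward (p' ≫ ψ)).obj O1' :=
    (Scheme.Modules.pullbackPushforwardAdjunction ψ).homEquiv E₂ _ φ'
  have hcovg := (cover_iff tg p' rfl φ' (fun U _ e hle => (resM_self O1' hle (tg.app U e)).symm) D'.invertible).2 D'.cover
  obtain ⟨g, hg, τg, hτg⟩ := exists_classifies D₂ hcovg
  have sq2 : IsPullback g p' p₂ ψ := IsPullback.mk' hg (fun T m m' => bundle_hom_ext D' g hg τg hτg)
    fun T m b => exists_bundle_lift D₂ D' g hg τg hτg m b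
  obtain ⟨l, hl, σl, hσl⟩ := exists_classifies D' hcov'
  have hlg : l ≫ g = a := by
    obtain ⟨χ, hχ⟩ := exists_bridge g hg τg hτg l (l ≫ g) rfl
    have hover : (l ≫ g) ≫ p₂ = q' ≫ ψ := by rw [Category.assoc, hg, ← Category.assoc, hl]
    have h' : Classifies φ₂ (q' ≫ ψ) t₁ (l ≫ g) hover (χ ≪≫ σl) := fun U hU e => by
      have hle : (l ≫ g) ⁻¹ᵁ (p₂ ⁻¹ᵁ U) ≤ l ⁻¹ᵁ (p' ⁻¹ᵁ (ψ ⁻¹ᵁ U)) := l.preimage_mono (le_of_over hg U)
      show σl.hom.app _ (χ.hom.app _ _) = _
      rw [hχ U e hle, app_resM, hσl.on_opens (ψ ⁻¹ᵁ U) (PicLib.pullSec ψ e), hu, resM_resM]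
      rfl
    exact eq_of_classifies D₂ hcova h' hτa
  haveI : IsImmersion l := by
    refine isImmersion_of_dominates D D' ht hσl fun x => ?_
    obtain ⟨U, hU, e, W, hW, hxW, hgW⟩ := hgen' x
    let κ : Γ(E, U) →ₗ[Γ(Y', U)] Γ((Scheme.Modules.pullback ψ).obj E₂, U) :=
      { toFun := fun e => (t ≫ inv u).app U e
        map_add' := fun e e' => map_add ((t ≫ inv u).app U).hom e e'
        map_smul' := fun b e => Scheme.Modules.Hom.app_smul (t ≫ inv u) b e }
    have hκ : ∀ e, u.app U (κ e) = t.app U e := fun e => hinv U (t.app U e)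
    exact ⟨U, hU, e, κ, ⟨W, hW, hxW, isGen_congr (by rw [hκ]) hgW⟩,
      fun W hW h => ⟨isGen_congr (by rw [hκ]) h, fun e' c hc => by rw [hκ, hκ, hc]⟩⟩
  haveI : IsSeparated p' := ProjLib.isSeparated_relProj D'.hP
  haveI : QuasiCompact l := by
    haveI : QuasiCompact (l ≫ p') := by rw [hl]; infer_instance
    exact QuasiCompact.of_comp l p'
  haveI : QuasiCompact g := MorphismProperty.of_isPullback (P := @QuasiCompact) sq2.flip inferInstance
  haveI : Flat g := MorphismProperty.of_isPullback (P := @Flat) sq2.flip inferInstance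
  haveI : Surjective g := MorphismProperty.of_isPullback (P := @Surjective) sq2.flip inferInstance
  have sq3 : IsPullback v l r g := by
    refine IsPullback.of_bot (v₂₁ := p') (v₂₂ := p₂) (h₃₁ := ψ) ?_ hlg.symm sq2
    rw [hl, hr]
    exact sq
  have := Desc19b.descendsAlong_immersion_qc.{u}
  exact (MorphismProperty.of_isPullback_of_descendsAlong
    (P := (@IsImmersion ⊓ @QuasiCompact : MorphismProperty Scheme.{u}))
    (Q := Et18.FPQC.{u}) sq3.flip ⟨⟨inferInstance, inferInstance⟩, inferInstance⟩ ⟨inferInstance, inferInstance⟩).1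

end Groth.Agent.VADescent28
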